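import Cfsg.Agent.Schur.M11.Base

set_option autoImplicit false
set_option maxRecDepth 100000

namespace Cfsg.Agent.Schur.M11
open Cfsg.Agent.Comp Cfsg.Agent.Schur

namespace P2

noncomputable def x0 : Net :=
(Net.cons (nat_lit 0x9e4) (nat_lit 12)
(Net.cons (nat_lit 0x1400c) (nat_lit 6)
(Net.cons (nat_lit 0x100000) (nat_lit 3)
(Net.cons (nat_lit 0x201040) (nat_lit 2)
(Net.cons (nat_lit 0x201048) (nat_lit 1)
(Net.cons (nat_lit 0x209040) (nat_lit 2)
(Net.cons (nat_lit 0x182040) (nat_lit 3)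
(Net.cons (nat_lit 0x202c) (nat_lit 6)
(Net.cons (nat_lit 0x9e4) (nat_lit 12)
Net.nil)))))))))

noncomputable def x1 : Net :=
(Net.cons (nat_lit 0x240) (nat_lit 12)
(Net.cons (nat_lit 0x32008) (nat_lit 6)
(Net.cons (nat_lit 0x86) (nat_lit 3)
(Net.cons (nat_lit 0x1001) (nat_lit 2)
(Net.cons (nat_lit 0x49201) (nat_lit 1)
(Net.cons (nat_lit 0x9209) (nat_lit 2)
(Net.cons (nat_lit 0x104002) (nat_lit 3)
(Net.cons (nat_lit 0x3b038) (nat_lit 6)
(Net.cons (nat_lit 0xc88) (nat_lit 12)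
Net.nil)))))))))

noncomputable def x2 : Net :=
(Net.cons (nat_lit 0xf54) (nat_lit 12)
(Net.cons (nat_lit 0x3e02c) (nat_lit 6)
(Net.cons (nat_lit 0x104104) (nat_lit 3)
(Net.cons (nat_lit 0x201200) (nat_lit 2)
(Net.cons (nat_lit 0x241200) (nat_lit 1)
(Net.cons (nat_lit 0x1248) (nat_lit 2)
(Net.cons (nat_lit 0x1c50c4) (nat_lit 3)
(Net.cons (nat_lit 0x1f00c) (nat_lit 6)
(Net.cons (nat_lit 0x3f8) (nat_lit 12)
Net.nil)))))))))

noncomputable def x3 : Net :=
(Net.cons (nat_lit 0xc62) (nat_lit 12)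
(Net.cons (nat_lit 0x8012) (nat_lit 6)
(Net.cons (nat_lit 0x180004) (nat_lit 3)
(Net.cons (nat_lit 0x40000) (nat_lit 2)
(Net.cons (nat_lit 0x240240) (nat_lit 1)
(Net.cons (nat_lit 0x40008) (nat_lit 2)
(Net.cons (nat_lit 0x184006) (nat_lit 3)
(Net.cons (nat_lit 0x9012) (nat_lit 6)
(Net.cons (nat_lit 0xc62) (nat_lit 12)
Net.nil)))))))))

noncomputable def R0 : List Net := [x0, x1, x2, x3]

noncomputable def R : List Net := R0 ++ Cfsg.Agent.Schur.M11.T

theorem ok : TOK 24 R := tok_append (TOK_of_ok (by decide +kernel)) Cfsg.Agent.Schur.M11.ok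

def D : List (List Nat × List Nat) :=
  [([0], [7, 4, 4, 7, 8, 8, 10]),
   ([1], [5, 7, 7, 9, 9, 11, 10]),
   ([2], [6, 4, 8, 8, 11, 10]),
   ([3], [4, 5, 8, 7, 9, 9, 10])]

theorem defs : ∀ e ∈ D, ev (sig R) e.1 = ev (sig R) e.2 :=
  eq_of_eqsP ok (by norm_num) (show eqsP (nat_lit 24) (nat_lit 5) (nat_lit 0) (nat_lit 5) R D = true by decide +kernel)

theorem allIn : AllIn Cfsg.Agent.Schur.M11.phi.range R := AllIn.ext Cfsg.Agent.Schur.M11.allIn (o := 4) rfl defs (by decide +kernel)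

def T : List (List (List Nat)) :=
  [[[]],
   [[1, 2, 3], [3]],
   [[2, 3], [2, 3], [3]],
   [[3], [3], [3], []]]

def Y : List (Nat × List Nat × List Nat) :=
  []

theorem eqs : ∀ e ∈ (pcEqs 2 4 T ++ stEqs Y), ev (sig R) e.1 = ev (sig R) e.2 :=
  eq_of_eqsP ok (by norm_num) (show eqsP (nat_lit 24) (nat_lit 5) (nat_lit 0) (nat_lit 5) R (pcEqs 2 4 T ++ stEqs Y) = true by decide +kernel)

def lv : List (List (List Nat) × List Nat × Nat × Nat) :=
  [([[0]], [0], 8, 2),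
   ([[2, 3], [1]], [1, 0], 17, 4),
   ([[3]], [0], 2, 2)]

theorem low : 2 ^ 4 ≤ Nat.card (gen (sig R) 4) :=
  low_gen (l := 5) (lv := lv) ok (by norm_num) (by decide +kernel) (by decide +kernel)

def I0 : List Ins :=
  [Ins.cons (nat_lit 0x2) (nat_lit 1) (nat_lit 0x82) (nat_lit 0x801),
   Ins.cons (nat_lit 0x3) (nat_lit 1) (nat_lit 0xc3) (nat_lit 0x901),
   Ins.cons (nat_lit 0x3) (nat_lit 1) (nat_lit 0x41) (nat_lit 0xa0100701),
   Ins.cons (nat_lit 0x3) (nat_lit 1) (nat_lit 0x82) (nat_lit 0xa010090100801),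
   Ins.cons (nat_lit 0x2) (nat_lit 1) (nat_lit 0x41) (nat_lit 0x901007010060100401),
   Ins.cons (nat_lit 0x2) (nat_lit 1) (nat_lit 0x42) (nat_lit 0x801007010060100501)]

theorem ins0 : InsOK 4 0 10 T Y 1 I0 :=
  InsOK.of 9 (show lall (insOK (nat_lit 4) (nat_lit 0) (nat_lit 9) (nat_lit 10) T Y (nat_lit 1)) I0 = true by decide +kernel)

def I : List Ins := I0

def K : List Nat :=
  []

def O : List Nat :=
  []

def U : List Nat :=
  [nat_lit 0x101,
   nat_lit 0x40300301,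
   nat_lit 0x40200202,
   nat_lit 0x402]

def C : List (List Nat) :=
  [[nat_lit 0x0],
  [nat_lit 0x0,
   nat_lit 0x0],
  [nat_lit 0x0,
   nat_lit 0x601005010020100101,
   nat_lit 0x501004010030100101],
  [nat_lit 0x401003010020100101,
   nat_lit 0x101,
   nat_lit 0x201,
   nat_lit 0x4010020100101]]

theorem ord : ordsOK 2 (Nat.succ 1) 3 10 (insL I) K [] O = true :=
  show ordsOK (nat_lit 2) (Nat.succ (nat_lit 1)) (nat_lit 3) (nat_lit 10) (insL I) K [] O = true by decide +kernel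

theorem tgt0 : TgtOK 2 10 T 2 3 (K ++ insL I) U C 0 4 :=
  TgtOK.of 8 4 rfl (show tgtRows (nat_lit 2) (nat_lit 8) (nat_lit 10) T (nat_lit 2) (nat_lit 3) (K ++ insL I) U C (nat_lit 0) (nat_lit 4) = true by decide +kernel)

theorem gen : PGen ↥Cfsg.Spor.M11 2 [] :=
  haveI := Cfsg.Agent.Schur.M11.card.1
  pgen_net Cfsg.Agent.Schur.M11.inj allIn Cfsg.Agent.Schur.M11.card.2 (by norm_num) rfl eqs low (by norm_num) (by decide +kernel) (E := 0) (I := I)
    (ins0) ord (a := 1) tgt0 (by decide +kernel)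

end P2

end Cfsg.Agent.Schur.M11
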