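import Cfsg.Agent.Schur.M11.Base

set_option autoImplicit false
set_option maxRecDepth 100000

namespace Cfsg.Agent.Schur.M11
open Cfsg.Agent.Comp Cfsg.Agent.Schur

namespace P3

noncomputable def x0 : Net :=
(Net.cons (nat_lit 0x208) (nat_lit 12)
(Net.cons (nat_lit 0x10012) (nat_lit 6)
(Net.cons (nat_lit 0x80080) (nat_lit 3)
(Net.cons (nat_lit 0x208040) (nat_lit 2)
(Net.cons (nat_lit 0x249048) (nat_lit 1)
(Net.cons (nat_lit 0x208008) (nat_lit 2)
(Net.cons (nat_lit 0x43082) (nat_lit 3)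
(Net.cons (nat_lit 0x23012) (nat_lit 6)
(Net.cons (nat_lit 0xaa8) (nat_lit 12)
Net.nil)))))))))

noncomputable def x1 : Net :=
(Net.cons (nat_lit 0x6c4) (nat_lit 12)
(Net.cons (nat_lit 0x1203c) (nat_lit 6)
(Net.cons (nat_lit 0x100006) (nat_lit 3)
(Net.cons (nat_lit 0x8001) (nat_lit 2)
(Net.cons (nat_lit 0x248201) (nat_lit 1)
(Net.cons (nat_lit 0x208009) (nat_lit 2)
(Net.cons (nat_lit 0x102046) (nat_lit 3)
(Net.cons (nat_lit 0x13030) (nat_lit 6)
(Net.cons (nat_lit 0xdd4) (nat_lit 12)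
Net.nil)))))))))

noncomputable def x2 : Net :=
(Net.cons (nat_lit 0x828) (nat_lit 12)
(Net.cons (nat_lit 0x2a030) (nat_lit 6)
(Net.cons (nat_lit 0x2080) (nat_lit 3)
(Net.cons (nat_lit 0x208201) (nat_lit 2)
(Net.cons (nat_lit 0x209241) (nat_lit 1)
(Net.cons (nat_lit 0x208209) (nat_lit 2)
(Net.cons (nat_lit 0x42080) (nat_lit 3)
(Net.cons (nat_lit 0x2a030) (nat_lit 6)
(Net.cons (nat_lit 0x828) (nat_lit 12)
Net.nil)))))))))

noncomputable def R0 : List Net := [x0, x1, x2]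

noncomputable def R : List Net := R0 ++ Cfsg.Agent.Schur.M11.T

theorem ok : TOK 24 R := tok_append (TOK_of_ok (by decide +kernel)) Cfsg.Agent.Schur.M11.ok

def D : List (List Nat × List Nat) :=
  [([0], [5, 3, 8, 7, 7, 10]),
   ([1], [9]),
   ([2], [6, 3, 5, 5, 5, 7, 7, 9])]

theorem defs : ∀ e ∈ D, ev (sig R) e.1 = ev (sig R) e.2 :=
  eq_of_eqsP ok (by norm_num) (show eqsP (nat_lit 24) (nat_lit 5) (nat_lit 0) (nat_lit 5) R D = true by decide +kernel)

theorem allIn : AllIn Cfsg.Agent.Schur.M11.phi.range R := AllIn.ext Cfsg.Agent.Schur.M11.allIn (o := 3) rfl defs (by decide +kernel)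

def T : List (List (List Nat)) :=
  [[[]],
   [[1], []]]

def Y : List (Nat × List Nat × List Nat) :=
  [(2, [0], [0, 0]),
   (2, [1], [0, 1])]

theorem eqs : ∀ e ∈ (pcEqs 3 2 T ++ stEqs Y), ev (sig R) e.1 = ev (sig R) e.2 :=
  eq_of_eqsP ok (by norm_num) (show eqsP (nat_lit 24) (nat_lit 5) (nat_lit 0) (nat_lit 5) R (pcEqs 3 2 T ++ stEqs Y) = true by decide +kernel)

def lv : List (List (List Nat) × List Nat × Nat × Nat) :=
  [([[0]], [0, 0], 5, 3),
   ([[1]], [0, 0], 7, 3)]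

theorem low : 3 ^ 2 ≤ Nat.card (gen (sig R) 2) :=
  low_gen (l := 5) (lv := lv) ok (by norm_num) (by decide +kernel) (by decide +kernel)

def I0 : List Ins :=
  [Ins.stab 2 [1, 0] [0, 1] (nat_lit 0x202)]

theorem ins0 : InsOK 2 1 5 T Y 2 I0 :=
  InsOK.of 9 (show lall (insOK (nat_lit 2) (nat_lit 1) (nat_lit 9) (nat_lit 5) T Y (nat_lit 2)) I0 = true by decide +kernel)

def I : List Ins := I0

def K : List Nat :=
  []

def O : List Nat :=
  []

def U : List Nat :=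
  [nat_lit 0x101,
   nat_lit 0x301]

def C : List (List Nat) :=
  [[nat_lit 0x0],
  [nat_lit 0x101,
   nat_lit 0x0]]

theorem ord : ordsOK 3 (Nat.succ 2) 3 5 (insL I) K [] O = true :=
  show ordsOK (nat_lit 3) (Nat.succ (nat_lit 2)) (nat_lit 3) (nat_lit 5) (insL I) K [] O = true by decide +kernel

theorem tgt0 : TgtOK 3 5 T 3 8 (K ++ insL I) U C 0 2 :=
  TgtOK.of 6 2 rfl (show tgtRows (nat_lit 3) (nat_lit 6) (nat_lit 5) T (nat_lit 3) (nat_lit 8) (K ++ insL I) U C (nat_lit 0) (nat_lit 2) = true by decide +kernel)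

theorem gen : PGen ↥Cfsg.Spor.M11 3 [] :=
  haveI := Cfsg.Agent.Schur.M11.card.1
  pgen_net Cfsg.Agent.Schur.M11.inj allIn Cfsg.Agent.Schur.M11.card.2 (by norm_num) rfl eqs low (by norm_num) (by decide +kernel) (E := 0) (I := I)
    (ins0) ord (a := 1) tgt0 (by decide +kernel)

end P3

end Cfsg.Agent.Schur.M11
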