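import Cfsg.Agent.Schur.Enc
import Cfsg.Agent.Golay.Mathieu

set_option autoImplicit false
set_option maxRecDepth 100000

namespace Cfsg.Agent.Schur.M11
open Cfsg.Agent.Comp Cfsg.Agent.Schur

noncomputable def n0 : Net :=
(Net.cons (nat_lit 0xaaa) (nat_lit 12)
(Net.cons (nat_lit 0x2a02a) (nat_lit 6)
(Net.cons (nat_lit 0x82082) (nat_lit 3)
(Net.cons (nat_lit 0x41041) (nat_lit 2)
(Net.cons (nat_lit 0x249249) (nat_lit 1)
(Net.cons (nat_lit 0x41041) (nat_lit 2)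
(Net.cons (nat_lit 0x1c01c0) (nat_lit 3)
(Net.cons (nat_lit 0x7038) (nat_lit 6)
(Net.cons (nat_lit 0xfc0) (nat_lit 12)
Net.nil)))))))))

noncomputable def n1 : Net :=
(Net.cons (nat_lit 0x7f8) (nat_lit 12)
(Net.cons (nat_lit 0x3e01e) (nat_lit 6)
(Net.cons (nat_lit 0x184182) (nat_lit 3)
(Net.cons (nat_lit 0x41200) (nat_lit 2)
(Net.cons (nat_lit 0x49248) (nat_lit 1)
(Net.cons (nat_lit 0x9200) (nat_lit 2)
(Net.cons (nat_lit 0x7184) (nat_lit 3)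
(Net.cons (nat_lit 0x1503a) (nat_lit 6)
(Net.cons (nat_lit 0x22c) (nat_lit 12)
Net.nil)))))))))

noncomputable def n2 : Net :=
(Net.cons (nat_lit 0x48) (nat_lit 12)
(Net.cons (nat_lit 0x16000) (nat_lit 6)
(Net.cons (nat_lit 0x184086) (nat_lit 3)
(Net.cons (nat_lit 0x8000) (nat_lit 2)
(Net.cons (nat_lit 0x48048) (nat_lit 1)
(Net.cons (nat_lit 0x200048) (nat_lit 2)
(Net.cons (nat_lit 0x86006) (nat_lit 3)
(Net.cons (nat_lit 0x3f00a) (nat_lit 6)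
(Net.cons (nat_lit 0xd92) (nat_lit 12)
Net.nil)))))))))

noncomputable def n3 : Net :=
(Net.cons (nat_lit 0x3e4) (nat_lit 12)
(Net.cons (nat_lit 0x10030) (nat_lit 6)
(Net.cons (nat_lit 0x6080) (nat_lit 3)
(Net.cons (nat_lit 0x8001) (nat_lit 2)
(Net.cons (nat_lit 0x208209) (nat_lit 1)
(Net.cons (nat_lit 0x201) (nat_lit 2)
(Net.cons (nat_lit 0x46100) (nat_lit 3)
(Net.cons (nat_lit 0x1402e) (nat_lit 6)
(Net.cons (nat_lit 0x66e) (nat_lit 12)
Net.nil)))))))))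

noncomputable def n4 : Net :=
(Net.cons (nat_lit 0x5c4) (nat_lit 12)
(Net.cons (nat_lit 0x38016) (nat_lit 6)
(Net.cons (nat_lit 0x180006) (nat_lit 3)
(Net.cons (nat_lit 0x9008) (nat_lit 2)
(Net.cons (nat_lit 0x49208) (nat_lit 1)
(Net.cons (nat_lit 0x209000) (nat_lit 2)
(Net.cons (nat_lit 0x102046) (nat_lit 3)
(Net.cons (nat_lit 0x701a) (nat_lit 6)
(Net.cons (nat_lit 0xf80) (nat_lit 12)
Net.nil)))))))))

noncomputable def n5 : Net :=
(Net.cons (nat_lit 0x574) (nat_lit 12)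
(Net.cons (nat_lit 0xe018) (nat_lit 6)
(Net.cons (nat_lit 0x180) (nat_lit 3)
(Net.cons (nat_lit 0x201040) (nat_lit 2)
(Net.cons (nat_lit 0x209240) (nat_lit 1)
(Net.cons (nat_lit 0x241200) (nat_lit 2)
(Net.cons (nat_lit 0x2000) (nat_lit 3)
(Net.cons (nat_lit 0xf030) (nat_lit 6)
(Net.cons (nat_lit 0x264) (nat_lit 12)
Net.nil)))))))))

noncomputable def n6 : Net :=
(Net.cons (nat_lit 0x6c4) (nat_lit 12)
(Net.cons (nat_lit 0x1203c) (nat_lit 6)
(Net.cons (nat_lit 0x100006) (nat_lit 3)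
(Net.cons (nat_lit 0x8001) (nat_lit 2)
(Net.cons (nat_lit 0x248201) (nat_lit 1)
(Net.cons (nat_lit 0x208009) (nat_lit 2)
(Net.cons (nat_lit 0x102046) (nat_lit 3)
(Net.cons (nat_lit 0x13030) (nat_lit 6)
(Net.cons (nat_lit 0xdd4) (nat_lit 12)
Net.nil)))))))))

noncomputable def n7 : Net :=
(Net.cons (nat_lit 0xe14) (nat_lit 12)
(Net.cons (nat_lit 0x28000) (nat_lit 6)
(Net.cons (nat_lit 0x180184) (nat_lit 3)
(Net.cons (nat_lit 0x40040) (nat_lit 2)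
(Net.cons (nat_lit 0x240040) (nat_lit 1)
(Net.cons (nat_lit 0x40248) (nat_lit 2)
(Net.cons (nat_lit 0x183184) (nat_lit 3)
(Net.cons (nat_lit 0x2800c) (nat_lit 6)
(Net.cons (nat_lit 0xe54) (nat_lit 12)
Net.nil)))))))))

noncomputable def T : List Net := [n0, n1, n2, n3, n4, n5, n6, n7]

theorem ok : TOK 24 T := TOK_of_ok (by decide +kernel)

def E : List (List Nat × List Nat) :=
  [([2], [1, 1, 1, 0]),
   ([0, 3], [0, 1, 0, 0, 1, 1]),
   ([4], [2, 3]),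
   ([2, 2, 2, 2, 5], [2, 2, 3, 3, 2, 2]),
   ([5, 4, 6], [4, 5, 5, 4]),
   ([5, 4, 4, 7], [5, 5, 4, 5, 4])]

theorem eqs : ∀ e ∈ E, ev (sig T) e.1 = ev (sig T) e.2 :=
  eq_of_eqsP ok (by norm_num) (show eqsP (nat_lit 24) (nat_lit 5) (nat_lit 0) (nat_lit 5) T E = true by decide +kernel)

noncomputable def phi : ↥Cfsg.Spor.M11 →* Equiv.Perm ℕ := (encHom Golay.gE).comp (Cfsg.Spor.M11).subtype

theorem rep0 : ∃ s, Rep s 2 24 T phi :=
  rep_of_gen Golay.gE (w := 5) (by norm_num) Golay.gen_M11 ok rfl (by decide +kernel)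

noncomputable def s : ℕ → ↥Cfsg.Spor.M11 := rep0.choose

theorem rep : Rep s 2 24 T phi := rep0.choose_spec

theorem card : Finite ↥Cfsg.Spor.M11 ∧ Nat.card ↥Cfsg.Spor.M11 = 7920 := ⟨inferInstance, Golay.card_M11⟩

theorem inj : Function.Injective phi := encHom_sub_injective _ _

theorem allIn : AllIn phi.range T := allIn_of_rep rep eqs (L' := 8) rfl (by decide +kernel)

end Cfsg.Agent.Schur.M11
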